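import Mathlib.RingTheory.PicardGroup
import Mathlib.RingTheory.Spectrum.Prime.FreeLocus
import Mathlib.LinearAlgebra.Matrix.GeneralLinearGroup.Defs
import Mathlib.LinearAlgebra.Matrix.ToLin
import Mathlib.RingTheory.LocalProperties.Submodule
import Mathlib.LinearAlgebra.FreeModule.StrongRankCondition
import Mathlib.LinearAlgebra.Dimension.FreeAndStrongRankCondition

set_option autoImplicit false

namespace Groth.Agent.SkolemPic

universe u

variable {R : Type u} [CommRing R] {n : ℕ}

lemma smul_comm_of_locally_rank_one {N : Type u} [AddCommGroup N] [Module R N]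
    [Module.Finite R N] [Module.Projective R N]
    (hrk : ∀ p : PrimeSpectrum R, Module.rankAtStalk (R := R) N p = 1)
    (f : N →ₗ[R] R) (x y : N) : f y • x = f x • y := by
  refine Module.eq_of_localization_maximal
    (fun (P : Ideal R) [P.IsMaximal] => LocalizedModule P.primeCompl N)
    (fun (P : Ideal R) [P.IsMaximal] => LocalizedModule.mkLinearMap P.primeCompl N) _ _
    fun P _ => ?_
  let S := P.primeCompl
  let fm : LocalizedModule S N →ₗ[Localization S] Localization S :=
    .extendScalarsOfIsLocalization S _ <| IsLocalizedModule.map S (LocalizedModule.mkLinearMap S N)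
      (Algebra.linearMap R (Localization S)) f
  have hfm : ∀ z, fm (LocalizedModule.mkLinearMap S N z) = algebraMap R (Localization S) (f z) :=
    fun z => IsLocalizedModule.map_apply _ _ _ _ _
  haveI : Module.Flat (Localization.AtPrime P) (LocalizedModule P.primeCompl N) := inferInstance
  haveI : Module.Free (Localization.AtPrime P) (LocalizedModule P.primeCompl N) :=
    Module.free_of_flat_of_isLocalRing
  have hr : Module.finrank (Localization.AtPrime P) (LocalizedModule P.primeCompl N) = 1 :=
    hrk ⟨P, inferInstance⟩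
  obtain ⟨b⟩ := (finrank_eq_one_iff Unit).1 hr
  have hb : ∀ z : LocalizedModule S N, z = b.repr z () • b () := fun z => by
    conv_lhs => rw [← b.sum_repr z]
    simp
  set ι := LocalizedModule.mkLinearMap S N with hι
  show ι (f y • x) = ι (f x • y)
  rw [map_smul, map_smul, ← algebraMap_smul (Localization S) (f y) (ι x),
    ← algebraMap_smul (Localization S) (f x) (ι y), ← hfm, ← hfm, hb (ι x), hb (ι y)]
  simp only [map_smul, smul_smul, smul_eq_mul]
  ring_nf

lemma invertible_of_pi_equiv [NeZero n] {N : Type u} [AddCommGroup N] [Module R N]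
    (e : (Fin n → N) ≃ₗ[R] (Fin n → R)) : Module.Invertible R N := by
  classical
  rcases subsingleton_or_nontrivial R with hR | hR
  · haveI : Subsingleton N := Module.subsingleton R N
    haveI : Subsingleton (Module.Dual R N ) := Module.subsingleton R _
    exact ⟨⟨fun a b _ => (Module.subsingleton R _).elim a b, fun r => ⟨0, Subsingleton.elim _ _⟩⟩⟩
  haveI : Module.Finite R (Fin n → N) := Module.Finite.equiv e.symm
  haveI : Module.Projective R (Fin n → N) := Module.Projective.of_equiv e.symm
  haveI : Module.Finite R N := Module.Finite.of_surjective (LinearMap.proj (R := R) (0 : Fin n))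
    (fun z => ⟨fun _ => z, rfl⟩)
  haveI : Module.Projective R N := Module.Projective.of_split
    (LinearMap.single R (fun _ : Fin n => N) 0) (LinearMap.proj 0) (by ext; simp)
  have hrk : ∀ p : PrimeSpectrum R, Module.rankAtStalk (R := R) N p = 1 := by
    intro p
    have h1 := congrFun (Module.rankAtStalk_eq_of_equiv e) p
    rw [Module.rankAtStalk_pi, Module.rankAtStalk_eq_finrank_of_free (M := Fin n → R)] at h1
    simp only [Finset.sum_apply, finsum_eq_sum_of_fintype, Finset.sum_const, Finset.card_univ,
      Fintype.card_fin, smul_eq_mul, Pi.natCast_apply, Module.finrank_pi, Nat.cast_id] at h1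
    exact Nat.eq_of_mul_eq_mul_left (Nat.pos_of_neZero n) (h1.trans (mul_one n).symm)
  let φ : Fin n → Module.Dual R N := fun j =>
    LinearMap.proj 0 ∘ₗ e.toLinearMap ∘ₗ LinearMap.single R (fun _ : Fin n => N) j
  let z : Fin n → N := e.symm (Pi.single 0 1)
  let t : TensorProduct R (Module.Dual R N) N := ∑ j, φ j ⊗ₜ z j
  have ht : ∑ j, φ j (z j) = 1 := by
    have h2 : ∑ j, Pi.single j (z j) = z := Finset.univ_sum_single z
    have h3 := congrArg (fun v => e v 0) h2
    simp only [map_sum, Finset.sum_apply, z, LinearEquiv.apply_symm_apply, Pi.single_eq_same] at h3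
    exact h3
  have hct : contractLeft R N t = 1 := by
    simp only [t, map_sum, contractLeft_apply, ht]
  have key : ∀ s, s = contractLeft R N s • t := by
    intro s
    induction s with
    | zero => simp
    | add a b ha hb => rw [map_add, add_smul, ← ha, ← hb]
    | tmul f x =>
      rw [contractLeft_apply, Finset.smul_sum]
      conv_lhs => rw [← one_smul R x, ← ht, Finset.sum_smul, TensorProduct.tmul_sum]
      refine Finset.sum_congr rfl fun j _ => ?_
      rw [smul_comm_of_locally_rank_one hrk (φ j) x (z j), TensorProduct.tmul_smul,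
        TensorProduct.smul_tmul', TensorProduct.smul_tmul']
      congr 1
      ext w
      simp only [LinearMap.smul_apply, smul_eq_mul]
      rw [mul_comm, ← smul_eq_mul, ← map_smul, smul_comm_of_locally_rank_one hrk f x w,
        map_smul, smul_eq_mul]
  refine ⟨⟨fun a b h => ?_, fun r => ⟨r • t, ?_⟩⟩⟩
  · rw [key a, key b, h]
  · rw [map_smul, hct, smul_eq_mul, mul_one]

/-- matrices acting on `N^n` -/
noncomputable def act (N : Type u) [AddCommGroup N] [Module R N] :
    Matrix (Fin n) (Fin n) R →ₐ[R] Module.End R (Fin n → N) where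
  toFun A := LinearMap.pi fun i => ∑ j, A i j • LinearMap.proj j
  map_one' := by
    refine LinearMap.ext fun x => funext fun i => ?_
    simp [Matrix.one_apply, ite_smul]
  map_mul' A B := by
    refine LinearMap.ext fun x => funext fun i => ?_
    simp [Matrix.mul_apply, Finset.smul_sum, Finset.sum_smul, smul_smul]
    exact Finset.sum_comm
  map_zero' := by
    refine LinearMap.ext fun x => funext fun i => ?_
    simp
  map_add' A B := by
    refine LinearMap.ext fun x => funext fun i => ?_
    simp [add_smul, Finset.sum_add_distrib]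
  commutes' r := by
    refine LinearMap.ext fun x => funext fun i => ?_
    simp [Matrix.algebraMap_matrix_apply, ite_smul, Module.algebraMap_end_apply]

lemma act_apply {N : Type u} [AddCommGroup N] [Module R N] (A : Matrix (Fin n) (Fin n) R)
    (x : Fin n → N) (i : Fin n) : act N A x i = ∑ j, A i j • x j := by
  simp [act]

lemma act_bijective (N : Type u) [AddCommGroup N] [Module R N] [Module.Invertible R N] :
    Function.Bijective (act (n := n) (R := R) N) := by
  classical
  constructor
  · intro A B h
    ext i j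
    refine eq_of_smul_eq_smul fun x : N => ?_
    have h' := congrArg (fun T : Module.End R (Fin n → N) => T (Pi.single j x) i) h
    simpa [act_apply, Pi.single_apply, smul_ite] using h'
  · intro T
    choose a ha using fun i j => (Module.Invertible.toModuleEnd_bijective R N).surjective
      (LinearMap.proj i ∘ₗ T ∘ₗ LinearMap.single R (fun _ : Fin n => N) j)
    refine ⟨Matrix.of a, LinearMap.pi_ext fun j x => funext fun i => ?_⟩
    have h := LinearMap.congr_fun (ha i j) x
    simp [Module.toModuleEnd, DistribSMul.toLinearMap] at h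
    simpa [act_apply, Pi.single_apply, smul_ite] using h

theorem free_of_inner [NeZero n]
    (h : ∀ φ : Matrix (Fin n) (Fin n) R ≃ₐ[R] Matrix (Fin n) (Fin n) R,
      ∃ P : GL (Fin n) R, ∀ A : Matrix (Fin n) (Fin n) R, φ A = P.1 * A * (P⁻¹).1)
    (N : Type u) [AddCommGroup N] [Module R N] [Module.Invertible R N]
    (e : (Fin n → N) ≃ₗ[R] (Fin n → R)) : Module.Free R N := by
  classical
  let φ : Matrix (Fin n) (Fin n) R ≃ₐ[R] Matrix (Fin n) (Fin n) R :=
    (AlgEquiv.ofBijective (act N) (act_bijective N)).trans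
      ((e.conjAlgEquiv R).trans Matrix.toLinAlgEquiv'.symm)
  obtain ⟨P, hP⟩ := h φ
  let h' : (Fin n → N) →ₗ[R] (Fin n → R) := Matrix.toLin' (P⁻¹).1 ∘ₗ e.toLinearMap
  let k : (Fin n → R) →ₗ[R] (Fin n → N) := e.symm.toLinearMap ∘ₗ Matrix.toLin' P.1
  have hkh : ∀ x, k (h' x) = x := fun x => by
    show e.symm (Matrix.toLin' P.1 (Matrix.toLin' (P⁻¹).1 (e x))) = x
    rw [← LinearMap.comp_apply, ← Matrix.toLin'_mul, P.mul_inv, Matrix.toLin'_one, LinearMap.id_apply,
      e.symm_apply_apply]
  have hhk : ∀ v, h' (k v) = v := fun v => by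
    show Matrix.toLin' (P⁻¹).1 (e (e.symm (Matrix.toLin' P.1 v))) = v
    rw [e.apply_symm_apply, ← LinearMap.comp_apply, ← Matrix.toLin'_mul, P.inv_mul,
      Matrix.toLin'_one, LinearMap.id_apply]
  have hcomm : ∀ A x, h' (act N A x) = Matrix.toLin' A (h' x) := by
    intro A x
    have h1 : e (act N A x) = Matrix.toLin' (φ A) (e x) := by
      show _ = Matrix.toLin' (Matrix.toLinAlgEquiv'.symm (e.conjAlgEquiv R (act N A))) (e x)
      change _ = Matrix.toLinAlgEquiv' _ (e x)
      rw [AlgEquiv.apply_symm_apply]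
      simp [LinearEquiv.conjAlgEquiv_apply]
    show Matrix.toLin' (P⁻¹).1 (e (act N A x)) = Matrix.toLin' A (Matrix.toLin' (P⁻¹).1 (e x))
    rw [h1, hP, ← LinearMap.comp_apply, ← Matrix.toLin'_mul, ← LinearMap.comp_apply,
      ← Matrix.toLin'_mul, mul_assoc P.1, ← mul_assoc, P.inv_mul, one_mul]
  let E : Matrix (Fin n) (Fin n) R := Matrix.single 0 0 1
  have hEact : ∀ x : Fin n → N, act N E x = Pi.single 0 (x 0) := fun x => funext fun i => by
    rcases eq_or_ne i 0 with rfl | hi
    · simp [act_apply, E, Matrix.single_apply, ite_smul]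
    · simp [act_apply, E, Matrix.single_apply, ite_smul, hi, Ne.symm hi]
  have hE : ∀ v : Fin n → R, Matrix.toLin' E v = Pi.single 0 (v 0) := fun v => funext fun i => by
    rcases eq_or_ne i 0 with rfl | hi
    · simp [Matrix.toLin'_apply, Matrix.mulVec, dotProduct, E, Matrix.single_apply]
    · simp [Matrix.toLin'_apply, Matrix.mulVec, dotProduct, E, Matrix.single_apply, hi, Ne.symm hi]
  have hk' : ∀ v, k (Matrix.toLin' E v) = act N E (k v) := fun v => by
    conv_lhs => rw [← hhk v, ← hcomm, hkh]
  refine Module.Free.of_equiv (LinearEquiv.ofLinear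
    (LinearMap.proj 0 ∘ₗ k ∘ₗ LinearMap.single R (fun _ : Fin n => R) 0)
    (LinearMap.proj 0 ∘ₗ h' ∘ₗ LinearMap.single R (fun _ : Fin n => N) 0) ?_ ?_ : R ≃ₗ[R] N)
  · refine LinearMap.ext fun x => ?_
    show k (Pi.single 0 (h' (Pi.single 0 x) 0)) 0 = x
    rw [← hE, hk', hEact, hkh]
    simp
  · refine LinearMap.ext fun r => ?_
    show h' (Pi.single 0 (k (Pi.single 0 r) 0)) 0 = r
    rw [← hEact, hcomm, hE, hhk]
    simp

theorem inner_of_free [NeZero n]
    (h : ∀ (N : Type u) [AddCommGroup N] [Module R N] [Module.Invertible R N],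
        Nonempty ((Fin n → N) ≃ₗ[R] (Fin n → R)) → Module.Free R N)
    (φ : Matrix (Fin n) (Fin n) R ≃ₐ[R] Matrix (Fin n) (Fin n) R) :
    ∃ P : GL (Fin n) R, ∀ A : Matrix (Fin n) (Fin n) R, φ A = P.1 * A * (P⁻¹).1 := by
  classical
  let T : Matrix (Fin n) (Fin n) R →ₐ[R] Module.End R (Fin n → R) :=
    Matrix.toLinAlgEquiv'.toAlgHom.comp φ.toAlgHom
  let ε : Fin n → Fin n → Module.End R (Fin n → R) := fun i j => T (Matrix.single i j 1)
  have hεmul : ∀ i j k l v, ε i j (ε k l v) = if j = k then ε i l v else 0 := by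
    intro i j k l v
    show (T _ * T _) v = _
    rw [← map_mul]
    split_ifs with hjk
    · subst hjk; simp [ε, Matrix.single_mul_single_same]
    · simp [Matrix.single_mul_single_of_ne, hjk]
  have hεsum : ∀ v, ∑ i, ε i i v = v := by
    intro v
    have h1 : ∑ i : Fin n, Matrix.single i i (1 : R) = 1 := Matrix.sum_single_one
    have h2 := congrArg (fun A => T A v) h1
    simpa [ε, map_sum, LinearMap.sum_apply] using h2
  let N := LinearMap.range (ε 0 0)
  have hN : ∀ x : N, ε 0 0 (x : Fin n → R) = x := by
    rintro ⟨_, v, rfl⟩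
    simp [hεmul]
  let p : Fin n → (Fin n → R) →ₗ[R] N := fun i => (ε 0 i).codRestrict N fun v =>
    ⟨ε 0 i v, by simp [hεmul]⟩
  let fwd : (Fin n → N) →ₗ[R] (Fin n → R) := ∑ i, ε i 0 ∘ₗ N.subtype ∘ₗ LinearMap.proj i
  let bwd : (Fin n → R) →ₗ[R] (Fin n → N) := LinearMap.pi p
  let e : (Fin n → N) ≃ₗ[R] (Fin n → R) := LinearEquiv.ofLinear fwd bwd
    (LinearMap.ext fun v => by simp [fwd, bwd, p, LinearMap.sum_apply, hεmul, hεsum])
    (LinearMap.ext fun x => funext fun k => Subtype.ext (by
      simp [fwd, bwd, p, LinearMap.sum_apply, hεmul, hN]))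
  haveI : Module.Invertible R N := invertible_of_pi_equiv e
  haveI : Module.Free R N := h N ⟨e⟩
  obtain ⟨g⟩ := Module.Invertible.free_iff_linearEquiv.1 (inferInstance : Module.Free R N)
  let L : (Fin n → R) ≃ₗ[R] (Fin n → R) := (LinearEquiv.piCongrRight fun _ => g.symm).trans e
  have hL : ∀ v, L v = ∑ i, ε i 0 (g.symm (v i) : Fin n → R) := fun v => by
    simp [L, e, fwd, LinearMap.sum_apply]
  let P : GL (Fin n) R := ⟨LinearMap.toMatrix' L.toLinearMap, LinearMap.toMatrix' L.symm.toLinearMap,
    by rw [← LinearMap.toMatrix'_comp, L.comp_symm, LinearMap.toMatrix'_id],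
    by rw [← LinearMap.toMatrix'_comp, L.symm_comp, LinearMap.toMatrix'_id]⟩
  refine ⟨P, fun A => ?_⟩
  have key : φ A * P.1 = P.1 * A := by
    induction A using Matrix.induction_on with
    | h_add X Y hX hY => rw [map_add, add_mul, hX, hY, mul_add]
    | h_std_basis k l r =>
      apply Matrix.toLin'.injective
      rw [Matrix.toLin'_mul, Matrix.toLin'_mul, show P.1 = LinearMap.toMatrix' L.toLinearMap from rfl,
        Matrix.toLin'_toMatrix']
      refine LinearMap.ext fun v => ?_
      have h1 : Matrix.toLin' (φ (Matrix.single k l r)) = r • ε k l := by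
        show T (Matrix.single k l r) = _
        rw [show Matrix.single k l r = r • Matrix.single k l (1 : R) by simp, map_smul]
      have h2 : Matrix.toLin' (Matrix.single k l r) v = Pi.single k (r * v l) := funext fun i => by
        rcases eq_or_ne i k with rfl | hi
        · simp [Matrix.toLin'_apply, Matrix.mulVec, dotProduct, Matrix.single_apply]
        · simp [Matrix.toLin'_apply, Matrix.mulVec, dotProduct, Matrix.single_apply, hi, Ne.symm hi]
      simp only [LinearMap.comp_apply, LinearEquiv.coe_coe, h1, hL, h2, LinearMap.smul_apply,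
        map_sum, hεmul, Finset.smul_sum]
      rw [Finset.sum_eq_single l, Finset.sum_eq_single k]
      · simp [← smul_eq_mul, map_smul]
      · intro b _ hb; simp [hb]
      · simp
      · intro b _ hb; simp [Ne.symm hb]
      · simp
  rw [← key, mul_assoc, P.mul_inv, mul_one]

theorem main (hn : 1 ≤ n) :
    (∀ φ : Matrix (Fin n) (Fin n) R ≃ₐ[R] Matrix (Fin n) (Fin n) R,
        ∃ P : GL (Fin n) R, ∀ A : Matrix (Fin n) (Fin n) R, φ A = P.1 * A * (P⁻¹).1) ↔
      (∀ (N : Type u) [AddCommGroup N] [Module R N] [Module.Invertible R N],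
        Nonempty ((Fin n → N) ≃ₗ[R] (Fin n → R)) → Module.Free R N) := by
  haveI : NeZero n := ⟨by omega⟩
  exact ⟨fun h N _ _ _ ⟨e⟩ => free_of_inner h N e, fun h => inner_of_free h⟩

end Groth.Agent.SkolemPic
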